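import Mathlib

/-!
# S2464, `F₄(5)`, `F₄(7)`, `F₄(17)`, box [K]: the number of conjugacy classes of the normalizer of a torus (helper275)

`card_conj_ge` : if `A ≤ T` are subgroups of `N`, `T` abelian, all commutators of `N` in `A`, `|T| = m |A|` and at least
`m` elements of `T` central in `N`, then `w m + (|T| - m) / w ≤ k(N)`, `w = |N : T|`.
-/

set_option autoImplicit false
set_option linter.unusedVariables false

namespace Cfsg.Agent.H275.F4

theorem card_pairs {N : Type*} [Group N] [Fintype N] :
    ∑ g : N, Nat.card {h : N // Commute g h} = Nat.card (ConjClasses N) * Nat.card N := by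
  rw [← card_comm_eq_card_conjClasses_mul_card, ← Nat.card_sigma]
  exact Nat.card_congr ⟨fun x => ⟨(x.1, x.2.1), x.2.2⟩, fun x => ⟨x.1.1, x.1.2, x.2⟩, fun _ => rfl, fun _ => rfl⟩

/-- the centralizer of an element whose conjugates lie in `A g` -/
theorem card_le_of_comm {N : Type*} [Group N] [Finite N] {A : Subgroup N} (g : N)
    (h : ∀ n : N, n * g * n⁻¹ * g⁻¹ ∈ A) : Nat.card N ≤ Nat.card {x : N // Commute g x} * Nat.card A := by
  have e1 : Nat.card {x : N // Commute g x} = Nat.card (Subgroup.centralizer ({g} : Set N)) := by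
    refine Nat.card_congr (Equiv.subtypeEquivRight fun x => ?_)
    rw [Subgroup.mem_centralizer_singleton_iff]
    exact ⟨fun h => h.symm, fun h => h.symm⟩
  rw [e1, ← (Subgroup.centralizer ({g} : Set N)).card_mul_index]
  refine Nat.mul_le_mul_left _ ?_
  rw [Subgroup.index]
  refine Nat.card_le_card_of_injective (fun x : N ⧸ Subgroup.centralizer ({g} : Set N) =>
    Quotient.liftOn' x (fun n => (⟨n * g * n⁻¹ * g⁻¹, h n⟩ : A)) ?_) ?_
  · intro a b hab
    have h1 : a⁻¹ * b ∈ Subgroup.centralizer ({g} : Set N) := QuotientGroup.leftRel_apply.1 hab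
    rw [Subgroup.mem_centralizer_singleton_iff] at h1
    apply Subtype.ext
    show a * g * a⁻¹ * g⁻¹ = b * g * b⁻¹ * g⁻¹
    have h2 : b = a * (a⁻¹ * b) := by group
    rw [h2]
    generalize a⁻¹ * b = c at h1
    have h3 : a * c * g * (a * c)⁻¹ = a * g * a⁻¹ := by
      rw [mul_assoc a c g, h1]
      group
    rw [h3]
  · intro x y
    induction x using Quotient.inductionOn' with
    | h a =>
      induction y using Quotient.inductionOn' with
      | h b =>
        intro h1
        have h2 : a * g * a⁻¹ * g⁻¹ = b * g * b⁻¹ * g⁻¹ := congrArg Subtype.val h1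
        have h3 : a * g * a⁻¹ = b * g * b⁻¹ := mul_right_cancel h2
        refine Quotient.sound' (QuotientGroup.leftRel_apply.2 ?_)
        rw [Subgroup.mem_centralizer_singleton_iff]
        calc a⁻¹ * b * g = a⁻¹ * (b * g * b⁻¹) * b := by group
          _ = a⁻¹ * (a * g * a⁻¹) * b := by rw [h3]
          _ = g * (a⁻¹ * b) := by group

/-- **[K]** -/
theorem card_conj_ge {N : Type*} [Group N] [Finite N] {T A : Subgroup N} (hA : A ≤ T)
    (comm : ∀ a ∈ T, ∀ b ∈ T, a * b = b * a) (hcom : ∀ a b : N, a * b * a⁻¹ * b⁻¹ ∈ A) {m : ℕ}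
    (hm : Nat.card T = m * Nat.card A) (hz : m ≤ Nat.card {e : N // e ∈ T ∧ ∀ n, e * n = n * e}) {w : ℕ}
    (hw : T.index = w) : w * m + (Nat.card T - m) / w ≤ Nat.card (ConjClasses N) := by
  classical
  have := Fintype.ofFinite N
  have hTN : Nat.card N = w * Nat.card T := by rw [← hw, mul_comm, T.card_mul_index]
  have hT0 : 0 < Nat.card T := Nat.card_pos
  have hw0 : 0 < w := by
    rw [← hw]
    exact Nat.pos_of_ne_zero Subgroup.index_ne_zero_of_finite
  have hA0 : 0 < Nat.card A := Nat.card_pos
  set z := Nat.card {e : N // e ∈ T ∧ ∀ n, e * n = n * e} with hzdef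
  have hzT : z ≤ Nat.card T := Nat.card_le_card_of_injective
    (fun e : {e : N // e ∈ T ∧ ∀ n, e * n = n * e} => (⟨e.1, e.2.1⟩ : T))
    (fun a b h => Subtype.ext (by simpa using h))
  -- the bounds
  have b1 : ∀ g : N, (g ∈ T ∧ ∀ n, g * n = n * g) → Nat.card N ≤ Nat.card {h : N // Commute g h} := by
    intro g hg
    exact Nat.card_le_card_of_injective (fun h : N => (⟨h, hg.2 h⟩ : {h : N // Commute g h}))
      (fun a b h => congrArg Subtype.val h)
  have b2 : ∀ g : N, g ∈ T → Nat.card T ≤ Nat.card {h : N // Commute g h} := by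
    intro g hg
    refine Nat.card_le_card_of_injective (fun h : T => (⟨h.1, comm g hg h.1 h.2⟩ : {h : N // Commute g h})) ?_
    intro a b h
    exact Subtype.ext (Subtype.mk.inj h)
  have b3 : ∀ g : N, w * m ≤ Nat.card {h : N // Commute g h} := by
    intro g
    have h1 := card_le_of_comm (A := A) g (fun n => hcom n g)
    rw [hTN, hm, ← mul_assoc] at h1
    exact Nat.le_of_mul_le_mul_right h1 hA0
  -- the sum
  have key : z * Nat.card N + (Nat.card T - z) * Nat.card T + (Nat.card N - Nat.card T) * (w * m) ≤
      Nat.card (ConjClasses N) * Nat.card N := by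
    rw [← card_pairs]
    have h1 : ∑ g : N, (if g ∈ T then (if (∀ n, g * n = n * g) then Nat.card N else Nat.card T) else w * m) ≤
        ∑ g : N, Nat.card {h : N // Commute g h} := by
      refine Finset.sum_le_sum fun g _ => ?_
      split_ifs with h2 h3
      · exact b1 g ⟨h2, h3⟩
      · exact b2 g h2
      · exact b3 g
    refine le_trans (le_of_eq ?_) h1
    rw [Finset.sum_ite, Finset.sum_ite, Finset.sum_const, Finset.sum_const, Finset.sum_const, smul_eq_mul, smul_eq_mul,
      smul_eq_mul, Finset.filter_filter, Finset.filter_filter]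
    have c1 : (Finset.univ.filter fun g : N => g ∈ T ∧ ∀ n, g * n = n * g).card = z := by
      rw [hzdef, Nat.card_eq_fintype_card, Fintype.card_subtype]
    have c2 : (Finset.univ.filter fun g : N => g ∈ T).card = Nat.card T := by
      rw [Nat.card_eq_fintype_card, Fintype.card_subtype]
    have c3 : (Finset.univ.filter fun g : N => g ∉ T).card = Nat.card N - Nat.card T := by
      have h2 := Finset.card_filter_add_card_filter_not (s := (Finset.univ : Finset N)) (fun g : N => g ∈ T)
      rw [c2, Finset.card_univ, ← Nat.card_eq_fintype_card] at h2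
      omega
    have c4 : (Finset.univ.filter fun g : N => g ∈ T ∧ ¬ ∀ n, g * n = n * g).card = Nat.card T - z := by
      have h2 := Finset.card_filter_add_card_filter_not (s := (Finset.univ.filter fun g : N => g ∈ T))
        (fun g : N => ∀ n, g * n = n * g)
      rw [Finset.filter_filter, Finset.filter_filter, c1, c2] at h2
      omega
    rw [c1, c3, c4]
  -- the arithmetic
  set k := Nat.card (ConjClasses N) with hk
  set t := Nat.card T with ht
  rw [hTN] at key
  have h2 : w * (w * m) + (t - m) ≤ k * w := by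
    have h3 : (z * w + (t - z) + (w - 1) * (w * m)) * t ≤ (k * w) * t := by
      have h4 : w * t - t = (w - 1) * t := by rw [Nat.sub_mul, one_mul]
      rw [h4] at key
      calc (z * w + (t - z) + (w - 1) * (w * m)) * t = z * (w * t) + (t - z) * t + (w - 1) * t * (w * m) := by ring
        _ ≤ k * (w * t) := key
        _ = k * w * t := by ring
    have h5 := Nat.le_of_mul_le_mul_right h3 hT0
    refine le_trans ?_ h5
    obtain ⟨w', rfl⟩ : ∃ w', w = w' + 1 := ⟨w - 1, by omega⟩
    rw [Nat.add_sub_cancel]
    obtain ⟨s, hs⟩ : ∃ s, z = m + s := ⟨z - m, by omega⟩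
    have h6 : t - m = (t - z) + s := by omega
    rw [h6, hs]
    have h7 : (w' + 1) * ((w' + 1) * m) = (w' + 1) * m + w' * ((w' + 1) * m) := by ring
    have h8 : (m + s) * (w' + 1) = (w' + 1) * m + s + s * w' := by ring
    rw [h7, h8]
    omega
  have h9 : (t - m) / w ≤ k - w * m := by
    rw [Nat.div_le_iff_le_mul_add_pred hw0]
    have h10 : w * (k - w * m) = k * w - w * (w * m) := by rw [Nat.mul_sub, mul_comm w k]
    rw [h10]
    omega
  have h11 : w * m ≤ k := by
    have h12 : w * (w * m) ≤ w * k := by
      rw [mul_comm w k]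
      omega
    exact Nat.le_of_mul_le_mul_left h12 hw0
  omega

end Cfsg.Agent.H275.F4
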